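import Groth.Agent.EtMil7.Presented
import Mathlib

/-!
# Finite presentation of glued modules over a finitely presented algebra
-/

set_option autoImplicit false

universe u

open TensorProduct

namespace Groth.Agent.H1Milnor

attribute [local instance] Algebra.TensorProduct.rightAlgebra

/-- Finitely many elements of `X` generate `T ⊗ X`. -/
theorem exists_finset_subsingleton {E T X : Type u} [CommRing E] [CommRing T] [Algebra E T] [AddCommGroup X]
    [Module E X] [Module.Finite T (T ⊗[E] X)] :
    ∃ s : Finset X, ∀ W : Submodule E X, (s : Set X) ⊆ W → Subsingleton (T ⊗[E] (X ⧸ W)) := by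
  classical
  have htop : Submodule.span T (Set.range fun l : X => (1 : T) ⊗ₜ[E] l) = ⊤ := by
    refine eq_top_iff.mpr fun x _ => ?_
    induction x with
    | zero => exact zero_mem _
    | add a b ha hb => exact add_mem (ha trivial) (hb trivial)
    | tmul t l =>
      rw [show t ⊗ₜ[E] l = t • ((1 : T) ⊗ₜ[E] l) by rw [TensorProduct.smul_tmul', smul_eq_mul, mul_one]]
      exact Submodule.smul_mem _ _ (Submodule.subset_span ⟨l, rfl⟩)
  obtain ⟨S, hS, hS'⟩ := (Submodule.fg_span_iff_fg_span_finset_subset (Set.range fun l : X => (1 : T) ⊗ₜ[E] l)).mp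
    (htop.symm ▸ Module.Finite.fg_top)
  choose l hl using fun z : S => hS z.2
  refine ⟨Finset.univ.image l, fun W hW => subsingleton_of_forall_eq 0 fun x => ?_⟩
  obtain ⟨x, rfl⟩ := LinearMap.lTensor_surjective T (Submodule.mkQ_surjective W) x
  show (Submodule.mkQ W).baseChange T x = 0
  have hx : x ∈ Submodule.span T (S : Set (T ⊗[E] X)) := hS' ▸ htop.symm ▸ Submodule.mem_top
  refine (Submodule.span_le (p := LinearMap.ker ((Submodule.mkQ W).baseChange T))).mpr (fun z hz => ?_) hx
  obtain ⟨w, hw, rfl⟩ : ∃ w, w ∈ W ∧ (1 : T) ⊗ₜ[E] w = z := ⟨l ⟨z, hz⟩, hW (by simp), hl ⟨z, hz⟩⟩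
  rw [SetLike.mem_coe, LinearMap.mem_ker, LinearMap.baseChange_tmul, Submodule.mkQ_apply,
    (Submodule.Quotient.mk_eq_zero W).mpr hw, tmul_zero]

/-- One corner: the base change of the kernel of a presentation is finite. -/
theorem finite_side {B' T0 E D' D : Type u} [CommRing B'] [CommRing T0] [CommRing E] [CommRing D'] [CommRing D]
    [Algebra B' T0] [Algebra B' E] [Algebra B' D'] [Algebra E D'] [IsScalarTower B' E D']
    [Module.FinitePresentation E D'] [Algebra D' D] [Algebra T0 D] [Algebra B' D] [IsScalarTower B' T0 D]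
    [IsScalarTower B' D' D] [Algebra.IsPushout B' T0 D' D]
    {L N F : Type u} [AddCommGroup L] [Module D' L] [Module E L] [IsScalarTower E D' L] [Module B' L]
    [IsScalarTower B' E L] [Module.Flat B' L] [AddCommGroup N] [Module D N] [Module.FinitePresentation D N]
    [Module T0 N] [IsScalarTower T0 D N] [Module D' N] [IsScalarTower D' D N] [Module B' N] [IsScalarTower B' T0 N]
    [IsScalarTower B' D' N] [IsScalarTower B' D' L]
    (g : L →ₗ[D'] N) (hg : Function.Bijective (LinearMap.liftBaseChange T0 (g.restrictScalars B')))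
    [AddCommGroup F] [Module E F] [Module.Finite E F] (π : F →ₗ[E] L) (hπ : Function.Surjective π) :
    Module.Finite (T0 ⊗[B'] E) ((T0 ⊗[B'] E) ⊗[E] LinearMap.ker π) := by
  let T := T0 ⊗[B'] E
  letI : Algebra E D := ((algebraMap D' D).comp (algebraMap E D')).toAlgebra
  haveI : IsScalarTower E D' D := IsScalarTower.of_algebraMap_eq fun x => rfl
  haveI : IsScalarTower B' E D := IsScalarTower.of_algebraMap_eq fun x => by
    rw [IsScalarTower.algebraMap_apply E D' D, ← IsScalarTower.algebraMap_apply B' E D',
      ← IsScalarTower.algebraMap_apply B' D' D]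
  letI : Algebra T D := (Algebra.TensorProduct.lift (IsScalarTower.toAlgHom B' T0 D) (IsScalarTower.toAlgHom B' E D)
    fun _ _ => Commute.all _ _).toRingHom.toAlgebra
  haveI : IsScalarTower T0 T D := IsScalarTower.of_algebraMap_eq fun t => by
    show algebraMap T0 D t = Algebra.TensorProduct.lift _ _ _ (t ⊗ₜ[B'] (1 : E))
    simp
  haveI : IsScalarTower E T D := IsScalarTower.of_algebraMap_eq fun e => by
    show algebraMap E D e = Algebra.TensorProduct.lift _ _ _ ((1 : T0) ⊗ₜ[B'] e)
    simp
  haveI : IsScalarTower B' T D := IsScalarTower.of_algebraMap_eq fun b => by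
    rw [IsScalarTower.algebraMap_apply B' T0 T, ← IsScalarTower.algebraMap_apply T0 T D,
      ← IsScalarTower.algebraMap_apply B' T0 D]
  haveI : Algebra.IsPushout B' D' T0 D := Algebra.IsPushout.symm inferInstance
  haveI hpo : Algebra.IsPushout E D' T D :=
    (Algebra.IsPushout.comp_iff (R := B') (S := E) (T := D') (R' := T0) (S' := T) (T' := D)).mp inferInstance
  haveI : Algebra.IsPushout E T D' D := hpo.symm
  haveI : Module.FinitePresentation T D :=
    Module.FinitePresentation.of_equiv (Algebra.IsPushout.equiv E T D' D).toLinearEquiv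
  letI : Module T N := Module.compHom N (algebraMap T D)
  haveI : IsScalarTower T D N := IsScalarTower.of_compHom T D N
  haveI : Module.FinitePresentation T N := Module.FinitePresentation.trans (R := T) (M := N) D
  letI : Module E N := Module.compHom N (algebraMap E D)
  haveI : IsScalarTower E D N := IsScalarTower.of_compHom E D N
  haveI : IsScalarTower E T N := IsScalarTower.of_algebraMap_smul fun e n => by
    rw [← algebraMap_smul D (algebraMap E T e) n, ← IsScalarTower.algebraMap_apply, algebraMap_smul]
  haveI : IsScalarTower T0 T N := IsScalarTower.of_algebraMap_smul fun t n => by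
    rw [← algebraMap_smul D (algebraMap T0 T t) n, ← IsScalarTower.algebraMap_apply, algebraMap_smul]
  haveI : IsScalarTower E D' N := IsScalarTower.of_algebraMap_smul fun e n => by
    rw [← algebraMap_smul D (algebraMap E D' e) n, ← IsScalarTower.algebraMap_apply, algebraMap_smul]
  let gT : T ⊗[E] L →ₗ[T] N := LinearMap.liftBaseChange T (g.restrictScalars E)
  let κ := Algebra.IsPushout.cancelBaseChange B' T0 E T L
  have hgκ : ∀ y, gT (κ.symm y) = LinearMap.liftBaseChange T0 (g.restrictScalars B') y := fun y => by
    induction y with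
    | zero => simp
    | add a b ha hb => simp only [map_add, ha, hb]
    | tmul s l =>
      rw [Algebra.IsPushout.cancelBaseChange_symm_tmul]
      simp [gT, algebraMap_smul]
  have hgT : Function.Bijective gT := by
    have : (gT : T ⊗[E] L → N) = LinearMap.liftBaseChange T0 (g.restrictScalars B') ∘ κ := funext fun x => by
      rw [Function.comp_apply, ← hgκ, LinearEquiv.symm_apply_apply]
    rw [this]
    exact hg.comp κ.bijective
  haveI : Module.FinitePresentation T (T ⊗[E] L) :=
    Module.FinitePresentation.of_equiv (LinearEquiv.ofBijective gT hgT).symm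
  letI : Module B' F := Module.compHom F (algebraMap B' E)
  haveI : IsScalarTower B' E F := IsScalarTower.of_compHom B' E F
  let ι := (LinearMap.ker π).subtype
  have hex : Function.Exact ι π := LinearMap.exact_subtype_ker_map π
  have hinj0 : Function.Injective ((ι.restrictScalars B').lTensor T0) :=
    W4Lib.lTensor_injective_of_flat_quotient (R := B') (f := ι.restrictScalars B') (g := π.restrictScalars B')
      (LinearMap.ker π).injective_subtype
      (show Function.Exact (ι.restrictScalars B') (π.restrictScalars B') from hex) hπ T0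
  let κK := Algebra.IsPushout.cancelBaseChange B' T0 E T (LinearMap.ker π)
  let κF := Algebra.IsPushout.cancelBaseChange B' T0 E T F
  have hι : ∀ y, ι.baseChange T (κK.symm y) = κF.symm ((ι.restrictScalars B').lTensor T0 y) := fun y => by
    induction y with
    | zero => simp
    | add a b ha hb => simp only [map_add, ha, hb]
    | tmul s l =>
      rw [Algebra.IsPushout.cancelBaseChange_symm_tmul, LinearMap.baseChange_tmul, LinearMap.lTensor_tmul,
        Algebra.IsPushout.cancelBaseChange_symm_tmul]
      rfl
  have hinj : Function.Injective (ι.baseChange T) := by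
    intro a b hab
    obtain ⟨a, rfl⟩ := κK.symm.surjective a
    obtain ⟨b, rfl⟩ := κK.symm.surjective b
    rw [hι, hι] at hab
    exact congrArg _ (hinj0 (κF.symm.injective hab))
  have hexT : Function.Exact (ι.baseChange T) (π.baseChange T) := lTensor_exact T hex hπ
  have hfg := Module.FinitePresentation.fg_ker (π.baseChange T) (LinearMap.lTensor_surjective T hπ)
  rw [LinearMap.exact_iff.mp hexT] at hfg
  have : Module.Finite T (LinearMap.range (ι.baseChange T)) := Module.Finite.iff_fg.mpr hfg
  exact Module.Finite.equiv (LinearEquiv.ofInjective _ hinj).symm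

variable {B' B A' A : Type u} [CommRing B'] [CommRing B] [CommRing A'] [CommRing A]
  [Algebra B' B] [Algebra B' A'] [Algebra B A] [Algebra A' A] [Algebra B' A]
  [IsScalarTower B' B A] [IsScalarTower B' A' A]

/-- Finiteness over an algebra from the two corners. -/
theorem finite_of_pair' (hsq : EtMil.IsFibreSquare B' B A' A) {E K : Type u} [CommRing E] [Algebra B' E]
    [AddCommGroup K] [Module E K] [Module.Finite (B ⊗[B'] E) ((B ⊗[B'] E) ⊗[E] K)]
    [Module.Finite (A' ⊗[B'] E) ((A' ⊗[B'] E) ⊗[E] K)] : Module.Finite E K := by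
  classical
  obtain ⟨s₁, h₁⟩ := exists_finset_subsingleton (E := E) (T := B ⊗[B'] E) (X := K)
  obtain ⟨s₂, h₂⟩ := exists_finset_subsingleton (E := E) (T := A' ⊗[B'] E) (X := K)
  let W : Submodule E K := Submodule.span E (↑(s₁ ∪ s₂) : Set K)
  letI : Module B' (K ⧸ W) := Module.compHom _ (algebraMap B' E)
  haveI : IsScalarTower B' E (K ⧸ W) := IsScalarTower.of_compHom B' E (K ⧸ W)
  haveI : Subsingleton (B ⊗[B'] (K ⧸ W)) :=
    @Equiv.subsingleton _ _ (Algebra.IsPushout.cancelBaseChange B' B E (B ⊗[B'] E) (K ⧸ W)).symm.toEquiv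
      (h₁ W fun l hl => Submodule.subset_span (by simp [Finset.mem_coe.mp hl]))
  haveI : Subsingleton (A' ⊗[B'] (K ⧸ W)) :=
    @Equiv.subsingleton _ _ (Algebra.IsPushout.cancelBaseChange B' A' E (A' ⊗[B'] E) (K ⧸ W)).symm.toEquiv
      (h₂ W fun l hl => Submodule.subset_span (by simp [Finset.mem_coe.mp hl]))
  have := EtMil7.subsingleton_of_pair hsq (K ⧸ W)
  exact ⟨⟨s₁ ∪ s₂, Submodule.Quotient.subsingleton_iff.mp this⟩⟩

end Groth.Agent.H1Milnor
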